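import Groth.Agent.BigSiteLib.AcyclicCompare
import Groth.Agent.BigSiteLib.Commute
import Groth.Agent.EtIntegralDesc.Main
import Groth.Agent.MonadSS.Inj
import Groth.Agent.DerExt.Comp
import Groth.Agent.DerExt.Coyoneda
import Groth.Agent.GrothSS.Ext

/-!
Cohomological descent along flat surjective morphisms locally of finite presentation.
-/

set_option autoImplicit false
set_option linter.style.haveILetI false
set_option linter.unusedSectionVars false
set_option backward.isDefEq.respectTransparency false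
set_option backward.isDefEq.respectTransparency.types false

universe u

noncomputable section

open CategoryTheory Category Limits Opposite AlgebraicGeometry
open Groth.Agent.EtCohDesc (P base Fp)
open Groth.Agent.EtIntegralDesc (pr₀ tailMap isPullback_zero isPullback_succ)

namespace Groth.Agent.EtFppfDesc

local notation "Kf" => Scheme.fppfPrecoverage
local notation "AG" => AddCommGrpCat

variable {X Y Z : Scheme.{u}}

/-- restriction on big fppf sites -/
abbrev pullF (f : X ⟶ Y) : EtFppf.AbF Y ⥤ EtFppf.AbF X :=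
  BigSite.pullBig Scheme.fppfPrecoverage f AddCommGrpCat.{u + 1}

/-- direct image on big fppf sites -/
abbrev pushF (f : X ⟶ Y) : EtFppf.AbF X ⥤ EtFppf.AbF Y :=
  BigSite.pushBig Scheme.fppfPrecoverage f AddCommGrpCat.{u + 1}

/-- the adjunction -/
abbrev adjF (f : X ⟶ Y) : pullF f ⊣ pushF f :=
  BigSite.bigAdj Scheme.fppfPrecoverage f AddCommGrpCat.{u + 1}

/-- restriction along a composite -/
def pullFComp (f : X ⟶ Y) (g : Y ⟶ Z) (h : X ⟶ Z) (w : f ≫ g = h) : pullF g ⋙ pullF f ≅ pullF h :=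
  (Scheme.fppfPrecoverage.toGrothendieck).overMapPullbackComp AddCommGrpCat.{u + 1} f g ≪≫
    (Scheme.fppfPrecoverage.toGrothendieck).overMapPullbackCongr AddCommGrpCat.{u + 1} w

/-- direct image along a composite -/
def pushFComp (f : X ⟶ Y) (g : Y ⟶ Z) (h : X ⟶ Z) (w : f ≫ g = h) : pushF f ⋙ pushF g ≅ pushF h :=
  (((adjF g).comp (adjF f)).ofNatIsoLeft (pullFComp f g h w)).rightAdjointUniq (adjF h)

/-- direct image along the identity -/
def pushFId (S : Scheme.{u}) : pushF (𝟙 S) ≅ 𝟭 (EtFppf.AbF S) :=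
  ((adjF (𝟙 S)).ofNatIsoLeft
    ((Scheme.fppfPrecoverage.toGrothendieck).overMapPullbackId AddCommGrpCat.{u + 1} S)).rightAdjointUniq
      Adjunction.id

variable (f : X ⟶ Y)

/-- the monad of the morphism -/
abbrev Tb : EtFppf.AbF Y ⥤ EtFppf.AbF Y := pullF f ⋙ pushF f

theorem nonempty_itF_iso : ∀ p, Nonempty (MonadSS.itF (Tb f) p ≅ pullF (base f p) ⋙ pushF (base f p)) := by
  intro p
  induction p with
  | zero =>
    exact ⟨Functor.isoWhiskerRight
        ((Functor.leftUnitor (pullF f)).symm ≪≫ Functor.isoWhiskerRight (pushFId Y).symm (pullF f) ≪≫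
          BigSiteLib.pushPullIso Kf (isPullback_zero f).flip.flip AddCommGrpCat.{u + 1}) (pushF f) ≪≫
      Functor.associator _ _ _ ≪≫
      Functor.isoWhiskerLeft _ (pushFComp (pr₀ f 0) f (base f 0) (WidePullback.π_arrow _ _))⟩
  | succ p ih =>
    obtain ⟨a⟩ := ih
    exact ⟨Functor.isoWhiskerRight a (Tb f) ≪≫ Functor.associator _ _ _ ≪≫
      Functor.isoWhiskerLeft (pullF (base f p)) ((Functor.associator _ _ _).symm ≪≫
        Functor.isoWhiskerRight (BigSiteLib.pushPullIso Kf (isPullback_succ f p) AddCommGrpCat.{u + 1}) (pushF f) ≪≫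
        Functor.associator _ _ _) ≪≫
      (Functor.associator _ _ _).symm ≪≫
      Functor.isoWhiskerRight (pullFComp (tailMap f p) (base f p) (base f (p + 1))
        (WidePullback.lift_base _ _ _ _)) _ ≪≫
      Functor.isoWhiskerLeft _ (pushFComp (pr₀ f (p + 1)) f (base f (p + 1)) (WidePullback.π_arrow _ _))⟩

theorem mono_unit [Flat f] [LocallyOfFinitePresentation f] [Surjective f] (G : EtFppf.AbF Y) :
    Mono ((adjF f).unit.app G) := by
  haveI : ∀ U, Mono (((adjF f).unit.app G).hom.app U) := by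
    intro U
    rw [AddCommGrpCat.mono_iff_injective]
    obtain ⟨U⟩ := U
    intro x y h
    let k := (Over.mapPullbackAdj f).counit.app U
    let fst : pullback U.hom f ⟶ U.left := pullback.fst U.hom f
    let R : Sieve U := Sieve.generate (Presieve.singleton k)
    have hR : R ∈ EtFppf.J Y U := by
      rw [GrothendieckTopology.mem_over_iff]
      have h1 : Sieve.generate (Presieve.singleton fst) ∈ Scheme.fppfTopology U.left := by
        refine Precoverage.generate_mem_toGrothendieck ?_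
        exact (Scheme.singleton_mem_precoverage_iff _ fst).2 ⟨fst.surjective, inferInstance, inferInstance⟩
      refine GrothendieckTopology.superset_covering _ ?_ h1
      rw [Sieve.generate_le_iff]
      rintro _ _ ⟨⟩
      exact ⟨_, k, 𝟙 _, ⟨_, 𝟙 _, k, ⟨⟩, Category.id_comp _⟩, (Category.id_comp _).symm⟩
    refine ((isSheaf_iff_isSheaf_of_type _ _).mp
      ((Presheaf.isSheaf_iff_isSheaf_forget _ _ (forget AddCommGrpCat.{u + 1})).mp
        G.property) R hR).isSeparatedFor.ext ?_
    rintro W _ ⟨_, a, _, ⟨⟩, rfl⟩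
    change G.obj.map (a ≫ k).op x = G.obj.map (a ≫ k).op y
    rw [op_comp, Functor.map_comp]
    exact congrArg (G.obj.map a.op) h
  haveI : Mono ((adjF f).unit.app G).hom := NatTrans.mono_of_mono_app _
  exact Sheaf.Hom.mono_of_presheaf_mono _ _ _

/-- global sections on the big fppf site -/
abbrev Zf (S : Scheme.{u}) : EtFppf.AbF S :=
  (constantSheaf (EtFppf.J S) AddCommGrpCat.{u + 1}).obj (AddCommGrpCat.of (ULift.{u + 1} ℤ))

/-- global sections -/
abbrev gamF (S : Scheme.{u}) : EtFppf.AbF S ⥤ AddCommGrpCat.{u + 1} := preadditiveCoyoneda.obj (op (Zf S))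

/-- maps out of the constant sheaf are global sections -/
def secEquiv (S : Scheme.{u}) (G : EtFppf.AbF S) : (Zf S ⟶ G) ≃+ G.obj.obj (op (Over.mk (𝟙 S))) :=
  AddEquiv.trans ((constantSheafAdj (EtFppf.J S) AddCommGrpCat.{u + 1}
    (Over.mkIdTerminal (X := S))).homAddEquiv (AddCommGrpCat.of (ULift ℤ)) G)
    (AddCommGrpCat.uliftZMultiplesAddEquiv _)

/-- global sections -/
def gamSecIso (S : Scheme.{u}) :
    gamF S ≅ sheafToPresheaf _ _ ⋙ (evaluation _ AddCommGrpCat.{u + 1}).obj (op (Over.mk (𝟙 S))) :=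
  NatIso.ofComponents (fun G => (secEquiv S G).toAddCommGrpIso) fun {G G'} φ => by
    ext x
    change secEquiv S G' (x ≫ φ) = φ.hom.app _ (secEquiv S G x)
    simp only [secEquiv, AddEquiv.trans_apply]
    rfl

/-- global sections of a direct image -/
def pushGamIso (k : Z ⟶ Y) : pushF k ⋙ gamF Y ≅ gamF Z :=
  Functor.isoWhiskerLeft (pushF k) (gamSecIso Y) ≪≫
    Functor.isoWhiskerLeft (sheafToPresheaf (EtFppf.J Z) AddCommGrpCat.{u + 1})
      ((evaluation _ AddCommGrpCat.{u + 1}).mapIso (Iso.op (Over.isoMk (asIso (pullback.snd (𝟙 Y) k)).symm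
        (IsIso.inv_hom_id _) :
        Over.mk (𝟙 Z) ≅ (Over.pullback k).obj (Over.mk (𝟙 Y))))) ≪≫
    (gamSecIso Z).symm

/-- inverse images of inverse images -/
theorem nonempty_pullF_aPull (k : Z ⟶ Y) (F : EtCoh.Ab Y) :
    Nonempty ((pullF k).obj ((EtFppf.aPull Y).obj F) ≅ (EtFppf.aPull Z).obj ((EtCoh.pull k).obj F)) :=
  ⟨(pullF k).mapIso ((BigSiteLib.piFIso Y).app F) ≪≫
    (fullyFaithfulSheafToPresheaf (EtFppf.J Z) AddCommGrpCat.{u + 1}).preimageIso
      (X := (pullF k).obj ((BigSiteLib.piF Y).obj F)) (Y := (BigSiteLib.piF Z).obj ((EtCoh.pull k).obj F))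
      ((sheafToPresheaf (QuotSh.J Scheme.etalePrecoverage Z) AddCommGrpCat.{u + 1}).mapIso
        ((BigSiteLib.piPullIso k).app F)) ≪≫
    ((BigSiteLib.piFIso Z).app _).symm⟩

/-- etale cohomology as fppf cohomology -/
theorem nonempty_gamF_derived (S : Scheme.{u}) (F : EtCoh.Ab S) (q : ℕ) :
    Nonempty (((gamF S).rightDerived q).obj ((EtFppf.aPull S).obj F) ≅ AddCommGrpCat.of (EtCoh.H S F q)) := by
  obtain ⟨e⟩ := BigSiteLib.nonempty_H_piF F q
  let i := (BigSiteLib.piFRestrictIso S).app F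
  let j := ((BigSiteLib.piFIso S).app F).symm
  let E : EtCoh.H S F q ≃+ EtFppf.HF S ((EtFppf.aPull S).obj F) q :=
    (((EtCoh.HF S q)).mapIso i).addCommGroupIsoToAddEquiv.trans
      (e.trans ((Sheaf.functorH.{u + 1, u + 1, u, u + 1} (J := EtFppf.J S) q).mapIso j).addCommGroupIsoToAddEquiv)
  exact ⟨(DerExt.rightDerivedIso (Zf S) q).app _ ≪≫ E.symm.toAddCommGrpIso⟩

/-- the retraction -/
def rho : Tb f ⋙ Tb f ⟶ Tb f where
  app G := (pushF f).map ((adjF f).counit.app ((pullF f).obj G))
  naturality {G G'} φ := by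
    change (pushF f).map ((pullF f).map ((pushF f).map ((pullF f).map φ))) ≫ _ =
      _ ≫ (pushF f).map ((pullF f).map φ)
    rw [← Functor.map_comp, ← Functor.map_comp]
    exact congrArg (pushF f).map ((adjF f).counit.naturality _)

theorem descent_ss [Flat f] [LocallyOfFinitePresentation f] [Surjective f] (F : EtCoh.Ab Y) :
    ∃ (E : CohomologicalSpectralSequence AddCommGrpCat.{u + 1} 1)
      (a : SpSeq.Abutment E (fun n : ℤ =>
        if 0 ≤ n then AddCommGrpCat.of (EtCoh.H Y F n.toNat) else AddCommGrpCat.of PUnit.{u + 2})),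
      (∀ n, a.IsFinite n) ∧ SpSeq.IsBounded E ∧
      ∀ p q : ℤ, Nonempty ((E.page 1 le_rfl).X (p, q) ≅
        (if 0 ≤ p ∧ 0 ≤ q then
          AddCommGrpCat.of (EtCoh.H (P f p.toNat) (Fp f F p.toNat) q.toNat)
         else AddCommGrpCat.of PUnit.{u + 2})) := by
  haveI : (Tb f).Additive := inferInstance
  refine MonadSS.exists_ss_inj (Tb f) (adjF f).unit (fun I hI => ?_) (mono_unit f) (gamF Y) (rho f)
    (fun G => ?_) ((EtFppf.aPull Y).obj F)
    (fun n => AddCommGrpCat.of (EtCoh.H Y F n)) (fun p q => AddCommGrpCat.of (EtCoh.H (P f p) (Fp f F p) q))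
    _ (AddCommGrpCat.isZero_of_subsingleton _) (fun n => nonempty_gamF_derived Y F n) (fun p q => ?_)
  · haveI : Injective ((pullF f).obj I) := BigSiteLib.injective_pullBig _ f I
    exact Injective.injective_of_adjoint (adjF f) ((pullF f).obj I)
  · exact ((pushF f).map_comp _ _).symm.trans
      ((congrArg (pushF f).map ((adjF f).left_triangle_components G)).trans ((pushF f).map_id _))
  · obtain ⟨a⟩ := nonempty_itF_iso f p
    obtain ⟨b⟩ := nonempty_pullF_aPull (base f p) F
    obtain ⟨c⟩ := nonempty_gamF_derived (P f p) (Fp f F p) q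
    let e : MonadSS.itF (Tb f) p ⋙ gamF Y ≅ pullF (base f p) ⋙ gamF (P f p) :=
      Functor.isoWhiskerRight a (gamF Y) ≪≫ Functor.associator _ _ _ ≪≫
        Functor.isoWhiskerLeft _ (pushGamIso (base f p))
    haveI : (pullF (base f p)).PreservesHomology := Functor.preservesHomologyOfExact _
    haveI : (pullF (base f p)).PreservesInjectiveObjects :=
      ⟨fun {I} hI => haveI := hI; BigSiteLib.injective_pullBig _ (base f p) I⟩
    exact ⟨(GrothSS.rightDerivedMapIso e q).app _ ≪≫
      (DerExt.rightDerivedCompIso (pullF (base f p)) (gamF (P f p)) q).app _ ≪≫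
      ((gamF (P f p)).rightDerived q).mapIso b ≪≫ c⟩

end Groth.Agent.EtFppfDesc
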